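import Groth.Agent.FlatCartier.Basic
import Groth.Agent.DivPart.Basic
import Groth.Agent.FpqcDescent.IdealGlue
import Mathlib

/-!
Over a reduced Noetherian base, containment in a flat closed subscheme is tested on fibres.
-/

set_option autoImplicit false
set_option linter.style.haveILetI false
set_option backward.isDefEq.respectTransparency false

universe u

open CategoryTheory CategoryTheory.Limits AlgebraicGeometry TopologicalSpace
open scoped TensorProduct

noncomputable section

namespace Groth.Agent.FibIdeal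

theorem appLE_fromSpec' {Y : Scheme.{u}} {V : Y.Opens} (hV : IsAffineOpen V) {R : CommRingCat.{u}}
    (φ : Γ(Y, V) ⟶ R) (e : (⊤ : (Spec R).Opens) ≤ (Spec.map φ ≫ hV.fromSpec) ⁻¹ᵁ V) :
    (Spec.map φ ≫ hV.fromSpec).appLE V ⊤ e = φ ≫ (Scheme.ΓSpecIso R).inv := by
  rw [Scheme.Hom.comp_appLE, hV.fromSpec_app_self]
  simp only [Category.assoc]
  erw [Scheme.Hom.map_appLE]
  have h : (Spec.map φ).appLE ⊤ ⊤ le_top = (Spec.map φ).appTop := Scheme.Hom.appLE_eq_app _
  rw [h, ← Scheme.ΓSpecIso_inv_naturality]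

/-- An element of a flat algebra quotient vanishing at the minimal primes of a reduced base is zero. -/
theorem mem_of_residual {R A : Type u} [CommRing R] [CommRing A] [Algebra R A] (I : Ideal A)
    [Module.Flat R (A ⧸ I)] {ι : Type*} [Fintype ι] [DecidableEq ι] (K : ι → Type u) [∀ i, CommRing (K i)]
    [∀ i, Algebra R (K i)] (hinj : ∀ r : R, (∀ i, algebraMap R (K i) r = 0) → r = 0) (d : A)
    (hd : ∀ i, d ⊗ₜ[R] (1 : K i) ∈ I.map (Algebra.TensorProduct.includeLeft : A →ₐ[R] A ⊗[R] K i)) : d ∈ I := by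
  have hj : Function.Injective (Algebra.linearMap R (∀ i, K i)) := (injective_iff_map_eq_zero _).mpr fun r hr =>
    hinj r fun i => congrFun hr i
  have h1 := Module.Flat.lTensor_preserves_injective_linearMap (M := A ⧸ I) (Algebra.linearMap R (∀ i, K i)) hj
  have h2 : ((Algebra.linearMap R (∀ i, K i)).lTensor (A ⧸ I)) (Ideal.Quotient.mk I d ⊗ₜ[R] (1 : R)) = 0 := by
    refine (TensorProduct.piRight R R (A ⧸ I) K).injective ?_
    funext i
    simp only [LinearMap.lTensor_tmul, map_zero, Algebra.linearMap_apply, map_one, TensorProduct.piRight_apply,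
      TensorProduct.piRightHom_tmul, Pi.one_apply, Pi.zero_apply]
    let ψ : A ⊗[R] K i →ₐ[R] (A ⧸ I) ⊗[R] K i :=
      Algebra.TensorProduct.map (Ideal.Quotient.mkₐ R I) (AlgHom.id R (K i))
    have h3 : I.map (Algebra.TensorProduct.includeLeft : A →ₐ[R] A ⊗[R] K i) ≤ RingHom.ker ψ.toRingHom := by
      refine Ideal.map_le_iff_le_comap.mpr fun a ha => ?_
      show ψ (a ⊗ₜ 1) = 0
      rw [Algebra.TensorProduct.map_tmul, Ideal.Quotient.mkₐ_eq_mk, Ideal.Quotient.eq_zero_iff_mem.mpr ha,
        TensorProduct.zero_tmul]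
    exact h3 (hd i)
  have h4 := h1 (h2.trans (map_zero _).symm)
  refine Ideal.Quotient.eq_zero_iff_mem.mp ?_
  simpa using congrArg (TensorProduct.rid R (A ⧸ I)) h4

theorem le_of_fibres {C T : Scheme.{u}} [IsLocallyNoetherian T] [AlgebraicGeometry.IsReduced T] (π : C ⟶ T)
    (D D' : C.IdealSheafData) (hflat : Flat (D'.subschemeι ≫ π))
    (hfib : ∀ t : ↥T, D.comap (pullback.fst π (T.fromSpecResidueField t)) ≤
      D'.comap (pullback.fst π (T.fromSpecResidueField t))) : D ≤ D' := by
  classical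
  intro W
  refine DivPart.ideal_le_of_stI _ _ W fun x _ => ?_
  obtain ⟨U, hU, hxU, -⟩ :=
    exists_isAffineOpen_mem_and_subset (X := T) (U := ⊤) (trivial : π.base x ∈ (⊤ : T.Opens))
  obtain ⟨V, hV, hxV, hVU⟩ := exists_isAffineOpen_mem_and_subset (X := C) (x := x) (U := π ⁻¹ᵁ U) hxU
  let V' : C.affineOpens := ⟨V, hV⟩
  have hxV' : x ∈ V'.1 := hxV
  refine ⟨V', hxV', Ideal.map_mono fun d hd => ?_⟩
  let A : Type u := Γ(C, V)
  let R : Type u := Γ(T, U)
  haveI : IsNoetherianRing R := IsLocallyNoetherian.component_noetherian ⟨U, hU⟩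
  haveI : _root_.IsReduced R := IsReduced.component_reduced U
  let φ : R →+* A := (π.appLE U V hVU).hom
  letI : Algebra R A := φ.toAlgebra
  haveI : Module.Flat R (A ⧸ (show Ideal A from D'.ideal V')) :=
    FlatCartier.flat_quotient hflat hU V' hVU
  haveI : Fintype (minimalPrimes R) := (minimalPrimes.finite_of_isNoetherianRing R).fintype
  let pt : minimalPrimes R → T := fun P => hU.fromSpec ⟨P.1, P.2.1.1⟩
  have hpt : ∀ P, pt P ∈ U := fun P => hU.range_fromSpec.subset ⟨_, rfl⟩
  let K : minimalPrimes R → Type u := fun P => T.residueField (pt P)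
  let ψ : ∀ P, CommRingCat.of R ⟶ T.residueField (pt P) := fun P =>
    T.presheaf.germ U (pt P) (hpt P) ≫ T.residue (pt P)
  letI : ∀ P, Algebra R (K P) := fun P => (ψ P).hom.toAlgebra
  refine mem_of_residual (R := R) (A := A) (show Ideal A from D'.ideal V') K (fun r hr => ?_) d fun P => ?_
  · have h1 : r ∈ sInf (⊥ : Ideal R).minimalPrimes := Ideal.mem_sInf.mpr fun {Q} hQ => by
      by_contra hn
      let P : minimalPrimes R := ⟨Q, hQ⟩
      have hq : hU.primeIdealOf ⟨pt P, hpt P⟩ = ⟨P.1, P.2.1.1⟩ :=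
        hU.fromSpec.isOpenEmbedding.injective (hU.fromSpec_primeIdealOf ⟨pt P, hpt P⟩)
      have hu : IsUnit (T.presheaf.germ U (pt P) (hpt P) r) :=
        WeakAssLib.isUnit_germ hU (hpt P) (by rw [hq]; exact hn)
      exact (hu.map (T.residue (pt P)).hom).ne_zero (hr P)
    rw [Ideal.sInf_minimalPrimes] at h1
    simpa [← nilradical_eq_zero R, nilradical] using h1
  · let B : CommRingCat.{u} := CommRingCat.of (A ⊗[R] K P)
    let inl : Γ(C, V) ⟶ B :=
      CommRingCat.ofHom (Algebra.TensorProduct.includeLeft : A →ₐ[R] A ⊗[R] K P).toRingHom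
    let inr : T.residueField (pt P) ⟶ B :=
      CommRingCat.ofHom (Algebra.TensorProduct.includeRight : K P →ₐ[R] A ⊗[R] K P).toRingHom
    have hres : T.fromSpecResidueField (pt P) = Spec.map (ψ P) ≫ hU.fromSpec := by
      rw [Scheme.fromSpecResidueField, ← hU.fromSpecStalk_eq_fromSpecStalk (hpt P), IsAffineOpen.fromSpecStalk,
        ← Category.assoc, ← Spec.map_comp]
    have hcomm : π.appLE U V hVU ≫ inl = ψ P ≫ inr := by
      ext r
      exact Algebra.TensorProduct.tmul_one_eq_one_tmul r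
    let g : Spec B ⟶ pullback π (T.fromSpecResidueField (pt P)) :=
      pullback.lift (Spec.map inl ≫ hV.fromSpec) (Spec.map inr) (by
        rw [Category.assoc, ← IsAffineOpen.SpecMap_appLE_fromSpec π hU hV hVU, hres, ← Spec.map_comp_assoc,
          ← Spec.map_comp_assoc, hcomm])
    have hg : g ≫ pullback.fst π (T.fromSpecResidueField (pt P)) = Spec.map inl ≫ hV.fromSpec :=
      pullback.lift_fst _ _ _
    have h1 := Scheme.IdealSheafData.comap_mono g (hfib (pt P))
    simp only [← Scheme.IdealSheafData.comap_comp, hg] at h1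
    have he : (⊤ : (Spec B).Opens) ≤ (Spec.map inl ≫ hV.fromSpec) ⁻¹ᵁ V := fun y _ =>
      hV.range_fromSpec.subset ⟨_, rfl⟩
    have h2 := h1 ⟨⊤, isAffineOpen_top _⟩
    rw [FpqcDescent.ideal_comap_appLE _ _ V' ⟨⊤, isAffineOpen_top _⟩ he,
      FpqcDescent.ideal_comap_appLE _ _ V' ⟨⊤, isAffineOpen_top _⟩ he, appLE_fromSpec' hV inl he,
      CommRingCat.hom_comp, ← Ideal.map_map, ← Ideal.map_map] at h2
    have h3 := Ideal.map_mono (f := (Scheme.ΓSpecIso B).hom.hom) h2
    rw [Ideal.map_map, Ideal.map_map, Ideal.map_map, Ideal.map_map, ← CommRingCat.hom_comp,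
      ← CommRingCat.hom_comp, Iso.inv_hom_id, Category.comp_id] at h3
    exact h3 (Ideal.mem_map_of_mem _ hd)

end Groth.Agent.FibIdeal
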